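import Groth.Agent.CharExtLib.Core
import Groth.Agent.LieKolchin.TrigDiag
import Groth.Agent.HopfFF.Image

/-!
Over any field a power of a character of a closed subgroup extends, and the characters are finitely generated.
-/

set_option autoImplicit false
set_option backward.isDefEq.respectTransparency false
set_option maxHeartbeats 800000
universe u
open TensorProduct WithConv

noncomputable section

namespace Groth.Agent.CharFinLib

open Comodule CharExtLib

variable {k : Type u} [Field k] {A C : Type u} [CommRing A] [HopfAlgebra k A] [CommRing C] [HopfAlgebra k C]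

theorem dual_ext {W : Type u} [AddCommGroup W] [Module k W] {x y : W} (h : ∀ f : W →ₗ[k] k, f x = f y) : x = y :=
  sub_eq_zero.1 <| (Module.forall_dual_apply_eq_zero_iff k _).1 fun f => by rw [map_sub, h f, sub_self]

/-- The determinant of a multiplicative matrix is group-like. -/
theorem isGroupLike_det {d : ℕ} (a : Matrix (Fin d) (Fin d) A)
    (hcomul : ∀ i j, Coalgebra.comul (R := k) (a i j) = ∑ l, a i l ⊗ₜ[k] a l j)
    (hcounit : ∀ i j, Coalgebra.counit (R := k) (a i j) = if i = j then 1 else 0) :
    IsGroupLikeElem k a.det := by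
  constructor
  · show Bialgebra.counitAlgHom k A a.det = 1
    rw [AlgHom.map_det]
    convert Matrix.det_one (n := Fin d) (R := k)
    ext i j
    simp [hcounit, Matrix.one_apply]
  · show Bialgebra.comulAlgHom k A a.det = _
    rw [AlgHom.map_det]
    let inl : A →ₐ[k] A ⊗[k] A := Algebra.TensorProduct.includeLeft
    let inr : A →ₐ[k] A ⊗[k] A := Algebra.TensorProduct.includeRight
    have e : (Bialgebra.comulAlgHom k A).mapMatrix a = inl.mapMatrix a * inr.mapMatrix a := by
      ext i j
      simp [hcomul, Matrix.mul_apply, inl, inr]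
    rw [e, Matrix.det_mul, ← AlgHom.map_det, ← AlgHom.map_det]
    simp [inl, inr]

theorem smul_sub_mem {R N W : Type*} [CommRing R] [Algebra k R] [AddCommGroup N] [Module R N] [Module k N]
    [IsScalarTower k R N] [Module.Finite k N] [AddCommGroup W] [Module k W] (M : Submodule R N) (hM : IsCoatom M)
    (P : N →ₗ[k] W) {a : N} {χ : W} (ha : P a = χ) (hχM : ∀ m ∈ M, P m ≠ χ) (F : R) (c : k)
    (hF : ∀ (x : N) (s : k), P x = s • χ → P (F • x) = (c * s) • χ) (x : N) :
    F • x - algebraMap k R c • x ∈ M := by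
  let Q := N ⧸ M
  haveI : Module.Finite k Q := Module.Finite.of_surjective (M.mkQ.restrictScalars k) M.mkQ_surjective
  haveI : IsSimpleModule R Q := isSimpleModule_iff_isCoatom.2 hM
  let T : Q →ₗ[k] Q := (LinearMap.lsmul R Q F).restrictScalars k
  let T' : N →ₗ[k] N := (LinearMap.lsmul R N F).restrictScalars k
  have hiter : ∀ i : ℕ, P ((T' ^ i) a) = c ^ i • χ := fun i => by
    induction i with
    | zero => simpa using ha
    | succ i ih =>
      rw [pow_succ', Module.End.mul_apply, pow_succ']
      exact hF _ _ ih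
  have hcomm : ∀ i : ℕ, ∀ x : N, (T ^ i) (M.mkQ x) = M.mkQ ((T' ^ i) x) := fun i => by
    induction i with
    | zero => simp
    | succ i ih => intro x; rw [pow_succ', pow_succ', Module.End.mul_apply, Module.End.mul_apply, ih]; rfl
  let p := T.charpoly
  have hroot : p.IsRoot c := by
    let y : N := (Polynomial.aeval T' p) a
    have hy : y ∈ M := by
      rw [← Submodule.Quotient.mk_eq_zero]
      show M.mkQ y = 0
      have : M.mkQ y = (Polynomial.aeval T p) (M.mkQ a) := by
        simp only [y, Polynomial.aeval_eq_sum_range, LinearMap.sum_apply, LinearMap.smul_apply, map_sum, hcomm]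
        refine Finset.sum_congr rfl fun i _ => ?_
        rw [← algebraMap_smul R (p.coeff i), map_smul, algebraMap_smul]
      rw [this, LinearMap.aeval_self_charpoly, LinearMap.zero_apply]
    have hy' : P y = p.eval c • χ := by
      simp only [y, Polynomial.aeval_eq_sum_range, LinearMap.sum_apply, LinearMap.smul_apply]
      rw [Polynomial.eval_eq_sum_range, Finset.sum_smul, map_sum]
      refine Finset.sum_congr rfl fun i _ => ?_
      rw [map_smul, hiter, smul_smul]
    by_contra hne'
    refine hχM (algebraMap k R (p.eval c)⁻¹ • y) (M.smul_mem _ hy) ?_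
    rw [algebraMap_smul, map_smul, hy', smul_smul, inv_mul_cancel₀ hne', one_smul]
  obtain ⟨v, hv, hv0⟩ := ((Module.End.hasEigenvalue_iff_isRoot_charpoly T _).2 hroot).exists_hasEigenvector
  let E : Submodule R Q :=
    { carrier := {q | F • q = c • q}
      add_mem' := fun {x y} hx hy => by
        show F • (x + y) = c • (x + y)
        rw [smul_add, smul_add, show F • x = _ from hx, show F • y = _ from hy]
      zero_mem' := by simp
      smul_mem' := fun f x hx => by
        show F • (f • x) = c • (f • x)
        rw [smul_smul, mul_comm, ← smul_smul, show F • x = c • x from hx, smul_comm] }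
  have hvE : v ∈ E := Module.End.mem_eigenspace_iff.1 hv
  have hE : E = ⊤ := (eq_bot_or_eq_top E).resolve_left fun h => by
    rw [h, Submodule.mem_bot] at hvE
    exact hv0 hvE
  have hx : F • M.mkQ x = c • M.mkQ x := (hE.symm ▸ Submodule.mem_top : M.mkQ x ∈ E)
  rw [← Submodule.Quotient.mk_eq_zero]
  show M.mkQ (F • x - algebraMap k R c • x) = 0
  rw [map_sub, map_smul, map_smul, algebraMap_smul, hx, sub_self]

theorem exists_matrix_data {R N : Type*} [CommRing R] [Algebra k R] [AddCommGroup N] [Module R N] [Module k N]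
    [IsScalarTower k R N] [Module.Finite k N] (M : Submodule R N) (hM : IsCoatom M) :
    ∃ (d : ℕ) (q : Fin d → N) (l : Fin d → N →ₗ[k] k), 0 < d ∧ (∀ i j, l i (q j) = if i = j then 1 else 0) ∧
      (∀ (f g : R) i j, l i ((f * g) • q j) = ∑ t, l t (g • q j) * l i (f • q t)) ∧
      ∀ (F : R) (c : k), (∀ x : N, F • x - algebraMap k R c • x ∈ M) → ∀ i j, l i (F • q j) = c * if i = j then 1 else 0 := by
  classical
  let Q := N ⧸ M
  haveI : Module.Finite k Q := Module.Finite.of_surjective (M.mkQ.restrictScalars k) M.mkQ_surjective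
  haveI : IsSimpleModule R Q := isSimpleModule_iff_isCoatom.2 hM
  haveI : Nontrivial Q := IsSimpleModule.nontrivial R Q
  let b := Module.finBasis k Q
  choose q hq using fun i => M.mkQ_surjective (b i)
  have hδ : ∀ i j, b.coord i (M.mkQ (q j)) = if i = j then 1 else 0 := fun i j => by
    rw [hq, Module.Basis.coord_apply, b.repr_self, Finsupp.single_apply]
    simp [eq_comm]
  refine ⟨_, q, fun i => b.coord i ∘ₗ M.mkQ.restrictScalars k, Module.finrank_pos, hδ, fun f g i j => ?_,
    fun F c h i j => ?_⟩
  · show b.coord i (M.mkQ ((f * g) • q j)) = ∑ t, b.coord t (M.mkQ (g • q j)) * b.coord i (M.mkQ (f • q t))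
    rw [mul_smul, map_smul]
    conv_lhs => rw [← b.sum_repr (M.mkQ (g • q j))]
    rw [Finset.smul_sum, map_sum]
    refine Finset.sum_congr rfl fun t _ => ?_
    rw [smul_comm, map_smul, map_smul M.mkQ f, hq, Module.Basis.coord_apply, Module.Basis.coord_apply, smul_eq_mul]
  · show b.coord i (M.mkQ (F • q j)) = _
    have hx := (Submodule.Quotient.mk_eq_zero M).2 (h (q j))
    rw [show (Submodule.Quotient.mk (F • q j - algebraMap k R c • q j) : Q) = M.mkQ (F • q j - algebraMap k R c • q j) from rfl,
      map_sub, sub_eq_zero, map_smul M.mkQ (algebraMap k R c), algebraMap_smul] at hx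
    rw [hx, map_smul, hδ, smul_eq_mul]

/-- A power of a group-like element of a quotient lifts. -/
theorem exists_pow_lift [Coalgebra.IsCocomm k A] (π : A →ₐc[k] C) (hπ : Function.Surjective π) {χ : C}
    (hχ : IsGroupLikeElem k χ) :
    ∃ (d : ℕ) (ψ : A), 0 < d ∧ IsGroupLikeElem k ψ ∧ π ψ = χ ^ d := by
  classical
  let P : ℕ → Prop := fun d => ∃ (N : Submodule (WithConv (A →ₗ[k] k)) A) (a : A), a ∈ N ∧ π a = χ ∧
    Module.Finite k (N.restrictScalars k) ∧ Module.finrank k (N.restrictScalars k) = d
  have hP : ∃ d, P d := by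
    obtain ⟨a, ha⟩ := hπ χ
    exact ⟨_, _, a, Submodule.mem_span_singleton_self a, ha, finite_span_singleton a, rfl⟩
  obtain ⟨N, a, haN, ha, hfin, hd⟩ := Nat.find_spec hP
  haveI := hfin
  haveI : Module.Finite k N := hfin
  haveI : IsScalarTower k (WithConv (A →ₗ[k] k)) N := inferInstance
  haveI : Module.Finite (WithConv (A →ₗ[k] k)) N := Module.Finite.of_restrictScalars_finite k _ _
  have hχ0 : χ ≠ 0 := hχ.ne_zero
  have hne : (⊥ : Submodule (WithConv (A →ₗ[k] k)) N) ≠ ⊤ := fun h => by
    have h1 : (⟨a, haN⟩ : N) ∈ (⊥ : Submodule (WithConv (A →ₗ[k] k)) N) := h ▸ Submodule.mem_top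
    rw [Submodule.mem_bot] at h1
    exact hχ0 (by rw [← ha, show a = 0 from congrArg Subtype.val h1, map_zero])
  obtain ⟨M, hM, -⟩ := (eq_top_or_exists_le_coatom (⊥ : Submodule (WithConv (A →ₗ[k] k)) N)).resolve_left hne
  have hχM : ∀ m ∈ M, π (m : A) ≠ χ := fun m hm hmχ => by
    let M' : Submodule (WithConv (A →ₗ[k] k)) A := M.map N.subtype
    have hle : M'.restrictScalars k ≤ N.restrictScalars k := fun x hx => by
      obtain ⟨y, -, rfl⟩ := hx
      exact y.2
    have hlt : M'.restrictScalars k < N.restrictScalars k := by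
      refine lt_of_le_of_ne hle fun he => hM.1 (eq_top_iff.2 fun x _ => ?_)
      have hx : (x : A) ∈ M'.restrictScalars k := he ▸ x.2
      obtain ⟨y, hy, hyx⟩ := hx
      exact (Subtype.ext hyx : y = x) ▸ hy
    haveI : Module.Finite k (M'.restrictScalars k) := Submodule.finiteDimensional_of_le hle
    refine Nat.find_min hP ?_ ⟨M', m, ⟨m, hm, rfl⟩, hmχ, inferInstance, rfl⟩
    rw [← hd]
    exact Submodule.finrank_lt_finrank_of_lt hlt
  let P : ↥N →ₗ[k] C := π.toLinearMap ∘ₗ N.subtype.restrictScalars k
  have hscal : ∀ (g : C →ₗ[k] k) (x : N),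
      pull π g • x - algebraMap k (WithConv (A →ₗ[k] k)) (g χ) • x ∈ M := fun g x =>
    smul_sub_mem (k := k) (R := WithConv (A →ₗ[k] k)) (N := ↥N) M hM P (a := ⟨a, haN⟩) ha hχM (pull π g) (g χ)
      (fun x s hx => by
        show π (pull π g • (x : A)) = _
        rw [map_smul_pull, show π (x : A) = s • χ from hx, map_smul, map_smul, hχ.comul_eq_tmul_self, rcon_tmul,
          smul_smul, mul_comm]) x
  obtain ⟨d, q, l, hd0, hδ, hmul, hsc⟩ := exists_matrix_data (k := k) (R := WithConv (A →ₗ[k] k)) (N := ↥N) M hM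
  have hL : ∀ i, ∃ L : A →ₗ[k] k, ∀ x : N, L (x : A) = l i x := fun i => by
    obtain ⟨L, hL⟩ := LinearMap.exists_extend (p := N.restrictScalars k) (l i : N.restrictScalars k →ₗ[k] k)
    exact ⟨L, fun x => LinearMap.congr_fun hL x⟩
  choose L hL using hL
  let m : Matrix (Fin d) (Fin d) A := Matrix.of fun i j => lcon (L i) (Coalgebra.comul (R := k) (q j : A))
  have hm : ∀ (f : WithConv (A →ₗ[k] k)) i j, f.ofConv (m i j) = l i (f • q j) := fun f i j => by
    show f.ofConv (lcon (L i) (Coalgebra.comul (R := k) (q j : A))) = _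
    rw [eval_lcon']
    exact hL i (f • q j)
  have hcounit : ∀ i j, Coalgebra.counit (R := k) (m i j) = if i = j then 1 else 0 := fun i j => by
    have h1 := hm 1 i j
    rw [one_smul, hδ, show (1 : WithConv (A →ₗ[k] k)).ofConv = Coalgebra.counit from
        LinearMap.ext fun x => by simp [LinearMap.convOne_def]] at h1
    exact h1
  have hcomul : ∀ i j, Coalgebra.comul (R := k) (m i j) = ∑ l, m i l ⊗ₜ[k] m l j := fun i j => by
    refine ext_rcon fun (g : A →ₗ[k] k) => dual_ext fun (f : A →ₗ[k] k) => ?_
    have h1 := hm (toConv f * toConv g) i j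
    rw [hmul] at h1
    simp only [← hm] at h1
    simp only [map_sum, rcon_tmul, map_smul, smul_eq_mul]
    refine Eq.trans ?_ h1
    rw [LinearMap.convMul_def]
    show f (rcon g (Coalgebra.comul (R := k) (m i j))) =
      LinearMap.mul' k k (TensorProduct.map f g (Coalgebra.comul (R := k) (m i j)))
    generalize Coalgebra.comul (R := k) (m i j) = y
    induction y using TensorProduct.induction_on with
    | zero => simp
    | add p q hp hq => simp only [map_add, hp, hq]
    | tmul p q => simp [mul_comm]
  refine ⟨d, m.det, hd0, isGroupLike_det m hcomul hcounit, ?_⟩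
  have hmap : (π : A →ₐ[k] C).mapMatrix m = χ • (1 : Matrix (Fin d) (Fin d) C) := by
    ext i j
    refine dual_ext fun (g : C →ₗ[k] k) => ?_
    show (pull π g).ofConv (m i j) = _
    rw [hm, hsc _ _ (hscal g), Matrix.smul_apply, Matrix.one_apply]
    by_cases h : i = j
    · subst h; simp
    · simp [h]
  show (π : A →ₐ[k] C) m.det = _
  rw [AlgHom.map_det, hmap, Matrix.det_smul, Matrix.det_one, mul_one, Fintype.card_fin]

/-- The group-like elements of a Hopf algebra of finite type form a finitely generated group. -/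
theorem fg_groupLike [Algebra.FiniteType k C] : Group.FG (GroupLike k C) := by
  classical
  let φ := LieKolchin.TrigDiag.charMap k C
  letI : Algebra (MonoidAlgebra k (GroupLike k C)) C := (φ : MonoidAlgebra k (GroupLike k C) →+* C).toAlgebra
  haveI : Module.FaithfullyFlat (MonoidAlgebra k (GroupLike k C)) C :=
    HopfFF.faithfullyFlat_of_injective φ (LieKolchin.TrigDiag.charMap_injective k C)
  haveI : IsNoetherianRing C := Algebra.FiniteType.isNoetherianRing k C
  haveI : IsNoetherianRing (MonoidAlgebra k (GroupLike k C)) := by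
    rw [isNoetherianRing_iff, isNoetherian_iff]
    let F : Ideal (MonoidAlgebra k (GroupLike k C)) ↪o Ideal C :=
      OrderEmbedding.ofMapLEIff (Ideal.map (algebraMap _ C)) fun I J =>
        ⟨fun h => by
          rw [← Ideal.comap_map_eq_self_of_faithfullyFlat (B := C) I, ← Ideal.comap_map_eq_self_of_faithfullyFlat (B := C) J]
          exact Ideal.comap_mono h, fun h => Ideal.map_mono h⟩
    exact F.dual.wellFounded (wellFounded_gt : WellFounded ((· > ·) : Ideal C → Ideal C → Prop))
  let I : Subgroup (GroupLike k C) → Ideal (MonoidAlgebra k (GroupLike k C)) := fun H =>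
    RingHom.ker (MonoidAlgebra.mapDomainRingHom k (QuotientGroup.mk' H))
  obtain ⟨_, ⟨H, hH, rfl⟩, hmax⟩ := set_has_maximal_iff_noetherian.2 inferInstance (I '' {H | H.FG})
    ⟨_, ⊥, ⟨∅, by simp⟩, rfl⟩
  suffices h : H = ⊤ by exact Group.fg_def.2 (h ▸ hH)
  refine eq_top_iff.2 fun x _ => ?_
  let H' := H ⊔ Subgroup.closure {x}
  have hle : I H ≤ I H' := by
    intro z hz
    rw [RingHom.mem_ker] at hz ⊢
    let f : (GroupLike k C) ⧸ H →* (GroupLike k C) ⧸ H' := QuotientGroup.map H H' (MonoidHom.id _) le_sup_left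
    have e : MonoidAlgebra.mapDomainRingHom k (QuotientGroup.mk' H') =
        (MonoidAlgebra.mapDomainRingHom k f).comp (MonoidAlgebra.mapDomainRingHom k (QuotientGroup.mk' H)) := by
      refine MonoidAlgebra.ringHom_ext (fun r => ?_) fun g => ?_ <;> simp [f]
    rw [e, RingHom.comp_apply, hz, map_zero]
  have heq : I H' ≤ I H := by
    by_contra hn
    exact hmax (I H') ⟨H', hH.sup ⟨{x}, by simp⟩, rfl⟩ (lt_of_le_not_ge hle hn)
  have hx : (MonoidAlgebra.single x 1 - 1 : MonoidAlgebra k (GroupLike k C)) ∈ I H' := by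
    rw [RingHom.mem_ker, map_sub, map_one, sub_eq_zero, MonoidAlgebra.mapDomainRingHom_apply,
      MonoidAlgebra.mapDomain_single, MonoidAlgebra.one_def]
    congr 1
    exact (QuotientGroup.eq_one_iff x).2 (Subgroup.mem_sup_right (Subgroup.subset_closure rfl))
  have h1 := heq hx
  rw [RingHom.mem_ker, map_sub, map_one, sub_eq_zero, MonoidAlgebra.mapDomainRingHom_apply,
    MonoidAlgebra.mapDomain_single, MonoidAlgebra.one_def] at h1
  exact (QuotientGroup.eq_one_iff x).1 (MonoidAlgebra.single_left_injective one_ne_zero h1)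

end Groth.Agent.CharFinLib
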